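import Cfsg.Agent.H497.Stein.Heis
import Cfsg.Agent.LThreeCo1.Ranks
import Cfsg.Agent.CoFive.Ranks
import Cfsg.Agent.CpAutMSeven.RanksClass
import Cfsg.Agent.BpSevenCo.Conj
import Cfsg.Agent.BpSpor.Row.Co1

/-!
# S4114: the row `Co1` (helper859)

`moved_three`, `moved_five`, `moved_seven` : the elements of order 3, 5, 7 of `Co1` are conjugate to another power.
-/

set_option autoImplicit false

namespace Cfsg.Agent.H859.Ccp.Co1

open Subgroup Cfsg Cfsg.Agent.H520 Cfsg.Agent.H497.Stein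
open Cfsg.Agent.LThreeMB (fr fr_conj)
open Cfsg.Agent.MonsterU.Lam2 (L2)
open Cfsg.Spor (Co1)

universe u

theorem fr_inv (s : Co1) : fr s⁻¹ = fr s := by
  unfold fr
  refine Nat.card_congr (Equiv.subtypeEquivRight fun v => ?_)
  rw [inv_smul_eq_iff, eq_comm]

theorem moved_three : Moved 3 Co1 := by
  have hfin : Finite Co1 := BpSevenCo.Conj.finite_co1
  refine moved_of_real Nat.prime_three (by norm_num) fun s hs => ?_
  have hs' : orderOf s⁻¹ = 3 := by rw [orderOf_inv, hs]
  rcases LThreeCo1.Ranks.ranks s hs with h | h | h | h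
  · exact isConj_iff.2 (LThreeCo1.Ranks.zero s s⁻¹ hs hs' h (by rw [fr_inv, h]))
  · exact isConj_iff.2 (LThreeCo1.Ranks.six s s⁻¹ hs hs' h (by rw [fr_inv, h]))
  · exact isConj_iff.2 (LThreeCo1.Ranks.eight s s⁻¹ hs hs' h (by rw [fr_inv, h]))
  · exact isConj_iff.2 (LThreeCo1.Ranks.twelve s s⁻¹ hs hs' h (by rw [fr_inv, h]))

theorem moved_five : Moved 5 Co1 := by
  have hfin : Finite Co1 := BpSevenCo.Conj.finite_co1
  refine moved_of_real Nat.prime_five (by norm_num) fun s hs => ?_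
  have hs' : orderOf s⁻¹ = 5 := by rw [orderOf_inv, hs]
  exact CoFive.Ranks.isConj_of_fr hs hs' (fr_inv s).symm

theorem moved_seven : Moved 7 Co1 := by
  have hfin : Finite Co1 := BpSevenCo.Conj.finite_co1
  have h7 : Nat.Prime 7 := by norm_num
  have : Fact (Nat.Prime 7) := ⟨h7⟩
  intro s hs
  rcases CpAutMSeven.Ranks.hranks s hs with h | h
  · obtain ⟨g, i, hi, hg⟩ := BpSevenCo.Conj.conj_pow hs h
    refine MovedAt.of_conj (k := g) ?_
    rw [hg]
    have h1 : MovedAt BpSevenCo.Conj.x := by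
      refine ⟨BpSevenCo.Conj.t, 2, BpSevenCo.Conj.txt1, fun h2 => ?_⟩
      have h3 := BpSevenCo.Conj.orderOf_x
      have h4 : BpSevenCo.Conj.x = 1 := by
        rw [pow_two] at h2
        exact mul_eq_left.1 h2
      rw [h4, orderOf_one] at h3
      norm_num at h3
    exact h1.pow BpSevenCo.Conj.x_pow (fun hd => hi (Nat.mod_eq_zero_of_dvd hd))
  · refine movedAt_of_real ?_ (sq_ne_one h7 (by norm_num) hs)
    have hs' : orderOf s⁻¹ = 7 := by rw [orderOf_inv, hs]
    exact (CpAutMSeven.Ranks.isConj_of_fr hs (by rw [h]; norm_num)).trans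
      (CpAutMSeven.Ranks.isConj_of_fr hs' (by rw [fr_inv, h]; norm_num)).symm

/-- **S4114, the row `Co1`.** -/
theorem row_Co1 {G : Type u} [Group G] [Finite G] (h : Cfsg.Spor.IsoCo1 G) : Cfsg.Agent.H520.Row G := by
  have D := BpSpor.Row.dat_co1 h
  obtain ⟨e⟩ := h
  refine row_of_dat D (l := [(2, 21), (3, 9), (5, 4), (7, 2), (11, 1), (13, 1), (23, 1)]) (by decide +kernel)
    (by norm_num) fun x hx hx2 hx3 => ?_
  simp only [List.mem_cons, List.not_mem_nil, or_false] at hx
  rcases hx with rfl | rfl | rfl | rfl | rfl | rfl | rfl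
  · exact absurd rfl hx3
  · exact moved_three.congr e
  · exact moved_five.congr e
  · exact moved_seven.congr e
  all_goals exact absurd hx2 (by norm_num)

end Cfsg.Agent.H859.Ccp.Co1
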