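import Cfsg.Agent.H497.Stein.HSMc
import Cfsg.Agent.H526.SpMcL
import Cfsg.Agent.BpTab.Final

/-!
# S4114: the row `Co2` (helper859)

`McL ≤ Co2` has index prime to 3; `PSU₃(5) ≤ Co2` has index prime to 5.
-/

set_option autoImplicit false

namespace Cfsg.Agent.H859.Ccp.Co2

open Subgroup Cfsg Cfsg.Agent.H520 Cfsg.Agent.H497.Stein
open Cfsg.Agent.H792.SpU35 (card_Co2 card_Co3 card_McL exists_tri_mcl)

universe u

theorem finite_Co2 : Finite Spor.Co2 := Nat.finite_of_card_ne_zero (by rw [card_Co2]; norm_num)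

theorem finite_McL : Finite Spor.McL := Nat.finite_of_card_ne_zero (by rw [card_McL]; norm_num)

theorem moved_three : Moved 3 Spor.Co2 := by
  have := finite_Co2
  have := finite_McL
  have : Fact (Nat.Prime 3) := ⟨Nat.prime_three⟩
  refine Moved.of_hom (Subgroup.inclusion H526.SpMcL.mcl_le_co2) (inclusion_injective _) (fun k hk => ?_)
    (moved_mcl_three ⟨MulEquiv.refl _⟩)
  rw [card_Co2, show (42305421312000 : ℕ) = 3 ^ 6 * 58032128000 by norm_num] at hk
  rw [card_McL]
  exact (pow_dvd_of Nat.prime_three (by norm_num) hk).trans (by norm_num)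

theorem moved_five : Moved 5 Spor.Co2 := by
  have := finite_Co2
  obtain ⟨x, T⟩ := exists_tri_mcl
  exact Tri.moved T Spor.Co2 (m := 338443370496) (by rw [card_Co2]; norm_num) (by norm_num)
    fun g _ _ h2 => ⟨g.2, h2⟩

/-- **S4114, the row `Co2`.** -/
theorem row_Co2 {G : Type u} [Group G] [Finite G] (h : Cfsg.Spor.IsoCo2 G) : Cfsg.Agent.H520.Row G := by
  have D := BpSpor.Row.dat_co2 h
  obtain ⟨e⟩ := h
  refine row_of_dat D (l := [(2, 18), (3, 6), (5, 3), (7, 1), (11, 1), (23, 1)])
    (by decide +kernel) (by norm_num) fun x hx hx2 hx3 => ?_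
  simp only [List.mem_cons, List.not_mem_nil, or_false] at hx
  rcases hx with rfl | rfl | rfl | rfl | rfl | rfl
  · exact absurd rfl hx3
  · exact moved_three.congr e
  · exact moved_five.congr e
  all_goals exact absurd hx2 (by norm_num)

end Cfsg.Agent.H859.Ccp.Co2
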