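import Cfsg.Agent.H497.Stein.Heis
import Cfsg.Agent.H415.HeRows
import Cfsg.Agent.H70.RowHe
import Cfsg.Agent.BpSpor.Row.He

/-!
# S4114: the row `He` (helper859)

Explicit extraspecial Sylow subgroups `3^{1+2}`, `7^{1+2}` (words of helper415) and words conjugating the elements `z`, `y`,
`x y^j` to other powers; one class of elements of order 5 (helper70).
-/

set_option autoImplicit false
set_option maxRecDepth 100000

namespace Cfsg.Agent.H859.Ccp.He

open Subgroup Cfsg Cfsg.Agent.H520 Cfsg.Agent.H497.Stein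
open Cfsg.Spor.He (Gen)
open Cfsg.Agent.SporadicB.HePerm (act wd)
open Cfsg.Agent.FixBN.HeStab Cfsg.Agent.KFacts.He.Lv Cfsg.Agent.CpAutHe.Cnt

universe u

theorem movedAt_of_words {t c : List Gen} {k : ℕ} (i : Fin 2058) (h : chkB (c ++ t) (pw t k ++ c) = true)
    (hne : Nat.beq (act (pw t k) i) (act t i) = false) : MovedAt (wd t) := by
  have h1 := eq_of_chkB h
  rw [wd_append, wd_append, wd_pw] at h1
  refine ⟨wd c, k, by rw [mul_inv_eq_iff_eq_mul, h1], fun h2 => ?_⟩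
  rw [act_eq, act_eq, wd_pw, h2] at hne
  exact absurd hne (by rw [Nat.beq_refl]; decide)

theorem heis_of_words {p : ℕ} {U V W : List Gen} (i : Fin 2058)
    (h1 : chkB (pw U p) [] = true) (h1' : chkB (pw V p) [] = true) (h1'' : chkB (pw W p) [] = true)
    (h2 : chkB (U ++ V) (V ++ (U ++ W)) = true) (h3 : chkB (U ++ W) (W ++ U) = true)
    (h5 : chkB (V ++ W) (W ++ V) = true) (h6 : Nat.beq (act W i) i = false) :
    Cfsg.Agent.H792.SpCube.Heis p (wd V) (wd U) (wd W) := by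
  have e1 := eq_of_chkB h1
  have e1' := eq_of_chkB h1'
  have e1'' := eq_of_chkB h1''
  have e2 := eq_of_chkB h2
  have e3 := eq_of_chkB h3
  have e5 := eq_of_chkB h5
  rw [wd_pw, wd_nil] at e1 e1' e1''
  rw [wd_append, wd_append, wd_append] at e2
  rw [wd_append, wd_append] at e3 e5
  refine ⟨e1', e1, e1'', e5, e3, by rw [e2, mul_assoc], fun he => ?_⟩
  rw [act_eq, he, map_one] at h6
  have h9 : Nat.beq (i : ℕ) (i : ℕ) = true := Nat.beq_refl _
  have h10 : Nat.beq (i : ℕ) (i : ℕ) = false := h6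
  rw [h9] at h10
  exact absurd h10 (by decide)

def U3 : List Gen := [.d,.e]

def V3 : List Gen := [.c,.d,.b,.c,.d,.e,.c,.b,.d,.c]

def W3 : List Gen := [.d,.e,.c,.d,.b,.c,.d,.e,.c,.b,.d,.c,.e,.d,.c,.d,.b,.c,.e,.d,.c,.b,.d,.c]

theorem heis3 : Cfsg.Agent.H792.SpCube.Heis 3 (wd V3) (wd U3) (wd W3) := by
  refine heis_of_words 15 ?_ ?_ ?_ ?_ ?_ ?_ ?_
  all_goals decide +kernel

theorem mz3 : MovedAt (wd W3) :=
  movedAt_of_words (c := [.a]) (k := 2) 15 (by decide +kernel) (by decide +kernel)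

theorem my3 : MovedAt (wd U3) :=
  movedAt_of_words (c := [.d]) (k := 2) 2 (by decide +kernel) (by decide +kernel)

theorem mx3_0 : MovedAt (wd (V3 ++ pw U3 0)) :=
  movedAt_of_words (c := [.a]) (k := 2) 0 (by decide +kernel) (by decide +kernel)

theorem mx3_1 : MovedAt (wd (V3 ++ pw U3 1)) :=
  movedAt_of_words (c := [.a,.c,.b,.d,.c,.a]) (k := 2) 0 (by decide +kernel) (by decide +kernel)

theorem mx3_2 : MovedAt (wd (V3 ++ pw U3 2)) :=
  movedAt_of_words (c := [.b,.a,.d,.b]) (k := 2) 0 (by decide +kernel) (by decide +kernel)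

theorem moved_three : Moved 3 Spor.He := by
  have hfin : Finite Cfsg.Spor.He := Nat.finite_of_card_ne_zero (by rw [card_he]; norm_num)
  have : Fact (Nat.Prime 3) := ⟨by norm_num⟩
  refine moved_of_heis_gen (p := 3) (by norm_num) (by rw [card_he]; norm_num) heis3 mz3 my3 fun j hj => ?_
  rw [← wd_pw, ← wd_append]
  interval_cases j
  · exact mx3_0
  · exact mx3_1
  · exact mx3_2

def U7 : List Gen := [.b,.d,.e,.c,.b,.d,.e,.c,.b,.d,.e,.c]

def V7 : List Gen := [.f,.d,.c,.d,.c,.d,.f,.b,.d,.e,.c,.b,.d,.e,.c,.b,.d,.e,.c,.f,.d,.c,.d,.c,.d,.f]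

def W7 : List Gen := [.b,.d,.e,.c,.b,.d,.e,.c,.b,.d,.e,.c,.f,.d,.c,.d,.c,.d,.f,.b,.d,.e,.c,.b,.d,.e,.c,.b,.d,.e,.c,.f,.d,.c,.d,.c,.d,.f,.c,.e,.d,.b,.c,.e,.d,.b,.c,.e,.d,.b,.f,.d,.c,.d,.c,.d,.f,.c,.e,.d,.b,.c,.e,.d,.b,.c,.e,.d,.b,.f,.d,.c,.d,.c,.d,.f]

theorem heis7 : Cfsg.Agent.H792.SpCube.Heis 7 (wd V7) (wd U7) (wd W7) := by
  refine heis_of_words 0 ?_ ?_ ?_ ?_ ?_ ?_ ?_
  all_goals decide +kernel

theorem mz7 : MovedAt (wd W7) :=
  movedAt_of_words (c := [.c,.e]) (k := 6) 0 (by decide +kernel) (by decide +kernel)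

theorem my7 : MovedAt (wd U7) :=
  movedAt_of_words (c := [.b,.d]) (k := 6) 0 (by decide +kernel) (by decide +kernel)

theorem mx7_0 : MovedAt (wd (V7 ++ pw U7 0)) :=
  movedAt_of_words (c := [.e,.f,.d,.c,.d,.f,.e,.a]) (k := 6) 0 (by decide +kernel) (by decide +kernel)

theorem mx7_1 : MovedAt (wd (V7 ++ pw U7 1)) :=
  movedAt_of_words (c := [.d,.c,.b,.f,.d,.c,.g,.d,.f,.d,.e,.b,.c,.d,.c,.d,.f,.e,.b,.c,.a]) (k := 2) 0 (by decide +kernel) (by decide +kernel)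

theorem mx7_2 : MovedAt (wd (V7 ++ pw U7 2)) :=
  movedAt_of_words (c := [.c,.b,.d,.c,.d,.g,.d,.f,.d,.c,.d,.e,.b,.c,.d,.a]) (k := 2) 0 (by decide +kernel) (by decide +kernel)

theorem mx7_3 : MovedAt (wd (V7 ++ pw U7 3)) :=
  movedAt_of_words (c := [.f,.d,.c,.d,.e,.d,.c,.f,.d,.b,.c,.d,.f,.c,.d,.c,.d,.b,.a,.b,.a]) (k := 4) 0 (by decide +kernel) (by decide +kernel)

theorem mx7_4 : MovedAt (wd (V7 ++ pw U7 4)) :=
  movedAt_of_words (c := [.d,.c,.b,.e,.d,.c,.d,.f,.e,.d,.c,.a,.b,.a]) (k := 2) 0 (by decide +kernel) (by decide +kernel)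

theorem mx7_5 : MovedAt (wd (V7 ++ pw U7 5)) :=
  movedAt_of_words (c := [.c,.e,.d,.c,.b,.f,.d,.c,.g,.d,.f,.d,.e,.b,.c,.d,.c,.d,.f,.b,.a]) (k := 2) 0 (by decide +kernel) (by decide +kernel)

theorem mx7_6 : MovedAt (wd (V7 ++ pw U7 6)) :=
  movedAt_of_words (c := [.f,.d,.c,.d,.c,.d,.f]) (k := 6) 0 (by decide +kernel) (by decide +kernel)

theorem moved_seven : Moved 7 Spor.He := by
  have hfin : Finite Cfsg.Spor.He := Nat.finite_of_card_ne_zero (by rw [card_he]; norm_num)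
  have : Fact (Nat.Prime 7) := ⟨by norm_num⟩
  refine moved_of_heis_gen (p := 7) (by norm_num) (by rw [card_he]; norm_num) heis7 mz7 my7 fun j hj => ?_
  rw [← wd_pw, ← wd_append]
  interval_cases j
  · exact mx7_0
  · exact mx7_1
  · exact mx7_2
  · exact mx7_3
  · exact mx7_4
  · exact mx7_5
  · exact mx7_6

theorem moved_five : Moved 5 Spor.He := by
  have hfin : Finite Cfsg.Spor.He := Nat.finite_of_card_ne_zero (by rw [card_he]; norm_num)
  exact moved_of_one Nat.prime_five (by norm_num) fun x y hx hy =>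
    (H70.RowHe.conj_five hx).symm.trans (H70.RowHe.conj_five hy)

/-- **S4114, the row `He`.** -/
theorem row_He {G : Type u} [Group G] [Finite G] (h : Cfsg.Spor.IsoHe G) : Cfsg.Agent.H520.Row G := by
  have D := BpSpor.Row.dat_he h
  obtain ⟨e⟩ := h
  refine row_of_dat D (l := [(2, 10), (3, 3), (5, 2), (7, 3), (17, 1)])
    (by decide +kernel) (by norm_num) fun x hx hx2 hx3 => ?_
  simp only [List.mem_cons, List.not_mem_nil, or_false] at hx
  rcases hx with rfl | rfl | rfl | rfl | rfl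
  · exact absurd rfl hx3
  · exact moved_three.congr e
  · exact moved_five.congr e
  · exact moved_seven.congr e
  all_goals exact absurd hx2 (by norm_num)

end Cfsg.Agent.H859.Ccp.He
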