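import Cfsg.Agent.H497.Stein.Eng
import Cfsg.Agent.H859.ClassEleven
import Cfsg.Agent.H856.SylowThree
import Cfsg.Agent.KFacts.J4.Base
import Cfsg.Agent.BpTab.Final

/-!
# S4114: the row `J4` (helper859)

`moved_three`, `moved_eleven` : the elements of order 3 and 11 of `J4` are real.
-/

set_option autoImplicit false

namespace Cfsg.Agent.H859.Ccp.J4

open Subgroup Cfsg Cfsg.Agent.H520 Cfsg.Agent.H497.Stein

universe u

theorem moved_three {K : Type u} [Group K] [Finite K] (h : Cfsg.Spor.IsoJ4 K) : Moved 3 K := by
  obtain ⟨hfin, hsim, ⟨F⟩⟩ := KFacts.J4.Base.exists_full h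
  exact moved_of_one Nat.prime_three (by norm_num) fun x y hx hy => H856.SylowThree.one_class F.C hx hy

theorem moved_eleven : Moved 11 Cfsg.Spor.J4 := by
  obtain ⟨hfin, hsim, ⟨F⟩⟩ := KFacts.J4.Base.exists_full (K := Cfsg.Spor.J4) ⟨MulEquiv.refl _⟩
  refine moved_of_real (by norm_num) (by norm_num) fun w hw => ?_
  have hw' : orderOf w⁻¹ = 11 := by rw [orderOf_inv, hw]
  have hc : centralizer ({w⁻¹} : Set Cfsg.Spor.J4) = centralizer {w} := by
    ext g
    rw [mem_centralizer_singleton_iff, mem_centralizer_singleton_iff]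
    constructor
    · intro h
      have h1 : Commute g w⁻¹ := h
      exact (Commute.inv_right_iff.1 h1).eq
    · intro h
      have h1 : Commute g w := h
      exact (Commute.inv_right_iff.2 h1).eq
  have h3 := SylEleven.card_centralizer_x
  have h4 := ClassEleven.eleven_dvd_centralizer
  rcases ClassEleven.isConj_or hw with h | h <;> rcases ClassEleven.isConj_or hw' with h' | h'
  · exact h.trans h'.symm
  · exfalso
    have h1 := ClassEleven.card_centralizer_conj h
    have h2 := ClassEleven.card_centralizer_conj h'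
    rw [hc] at h2
    omega
  · exfalso
    have h1 := ClassEleven.card_centralizer_conj h
    have h2 := ClassEleven.card_centralizer_conj h'
    rw [hc] at h2
    omega
  · exact h.trans h'.symm

/-- **S4114, the row `J4`.** -/
theorem row_J4 {G : Type u} [Group G] [Finite G] (h : Cfsg.Spor.IsoJ4 G) : Cfsg.Agent.H520.Row G := by
  have D := BpSpor.Row.dat_j4 h
  refine row_of_dat D (l := [(2, 21), (3, 3), (5, 1), (7, 1), (11, 3), (23, 1), (29, 1), (31, 1), (37, 1), (43, 1)])
    (by decide +kernel) (by norm_num) fun x hx hx2 hx3 => ?_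
  simp only [List.mem_cons, List.not_mem_nil, or_false] at hx
  rcases hx with rfl | rfl | rfl | rfl | rfl | rfl | rfl | rfl | rfl | rfl
  · exact absurd rfl hx3
  · exact moved_three h
  · exact absurd hx2 (by norm_num)
  · exact absurd hx2 (by norm_num)
  · obtain ⟨e⟩ := h
    exact moved_eleven.congr e
  all_goals exact absurd hx2 (by norm_num)

end Cfsg.Agent.H859.Ccp.J4
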