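import Cfsg.Agent.H497.Stein.Heis
import Cfsg.Agent.H999.ONFiveCent
import Cfsg.Agent.BpSpor.ONanThree
import Cfsg.Agent.BpTab.Final

/-!
# S4114: the row `O'N` (helper859)

`moved_three` (one class of elements of order 3), `moved_seven` (a torus element of `L₃(7)` acting as a scalar on
`7^{1+2}` modulo its centre).
-/

set_option autoImplicit false

namespace Cfsg.Agent.H859.Ccp.ON

open Subgroup Cfsg Cfsg.Agent.H520 Cfsg.Agent.H497.Stein
open Cfsg.Agent.BpSpor.ONanThree (U U_mul U_zero U_pow U_seven um card_ON)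
open Matrix

universe u

theorem finite_ON : Finite Spor.ON := Nat.finite_of_card_ne_zero (by rw [card_ON]; norm_num)

theorem moved_three : Moved 3 Spor.ON := by
  have := finite_ON
  exact moved_of_one Nat.prime_three (by norm_num) fun x y hx hy => H999.ONFiveCent.isConj_three hx hy

/-- the torus element `diag(2, 1, 4)` -/
def tm : Matrix (Fin 3) (Fin 3) (ZMod 7) := !![2, 0, 0; 0, 1, 0; 0, 0, 4]

theorem det_tm : tm.det = 1 := by decide

theorem tm_um (a b c : ZMod 7) : tm * um a b c = um (2 * a) (2 * b) (4 * c) * tm := by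
  have h8 : (8 : ZMod 7) = 1 := by decide
  have e1 : b = 2 * b * 4 := by linear_combination (-1) * b * h8
  have e2 : 2 * c = 4 * c * 4 := by linear_combination (-2) * c * h8
  ext i j
  fin_cases i <;> fin_cases j <;> simp [tm, um, Matrix.mul_apply, Fin.sum_univ_three]
  · exact e2
  · exact e1

/-- the torus element `diag(2, 1, 4)` -/
def T : SpecialLinearGroup (Fin 3) (ZMod 7) := ⟨tm, det_tm⟩

theorem T_U (a b c : ZMod 7) : T * U a b c = U (2 * a) (2 * b) (4 * c) * T := Subtype.ext (tm_um a b c)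

theorem U_notMem : U 0 0 (-1) ∉ center (SpecialLinearGroup (Fin 3) (ZMod 7)) := by
  rw [Matrix.SpecialLinearGroup.mem_center_iff]
  rintro ⟨r, -, hr⟩
  have h2 := congrFun (congrFun hr 0) 2
  have h3 : (U 0 0 (-1) : Matrix (Fin 3) (Fin 3) (ZMod 7)) 0 2 = -1 := rfl
  rw [h3, Matrix.scalar_apply, Matrix.diagonal_apply_ne _ (by decide)] at h2
  exact absurd h2 (by decide)

theorem moved_seven : Moved 7 Spor.ON := by
  have := finite_ON
  have hp : Fact (Nat.Prime 7) := ⟨by norm_num⟩
  obtain ⟨N, -, -, ⟨e⟩⟩ := S1693.result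
  let q : SpecialLinearGroup (Fin 3) (ZMod 7) →* Matrix.ProjectiveSpecialLinearGroup (Fin 3) (ZMod 7) :=
    QuotientGroup.mk' _
  let g : SpecialLinearGroup (Fin 3) (ZMod 7) →* Spor.ON :=
    (Subgroup.subtype _).comp (N.subtype.comp (e.symm.toMonoidHom.comp q))
  have hg : ∀ x, g x = 1 → x ∈ center (SpecialLinearGroup (Fin 3) (ZMod 7)) := by
    intro x hx
    have h1 : e.symm (q x) = 1 := Subtype.ext (Subtype.ext hx)
    have h2 : q x = 1 := by
      rw [← map_one e.symm] at h1
      exact e.symm.injective h1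
    exact (QuotientGroup.eq_one_iff _).1 h2
  have hh : Cfsg.Agent.H792.SpCube.Heis 7 (g (U 1 0 0)) (g (U 0 1 0)) (g (U 0 0 (-1))) := by
    constructor
    · rw [← map_pow, U_seven, map_one]
    · rw [← map_pow, U_seven, map_one]
    · rw [← map_pow, U_seven, map_one]
    · rw [← map_mul, ← map_mul, U_mul, U_mul]; congr 2 <;> ring
    · rw [← map_mul, ← map_mul, U_mul, U_mul]; congr 2 <;> ring
    · rw [← map_mul, ← map_mul, ← map_mul, U_mul, U_mul, U_mul]; congr 2 <;> ring
    · exact fun h => U_notMem (hg _ h)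
  have hT : ∀ a b c : ZMod 7, g T * g (U a b c) * (g T)⁻¹ = g (U (2 * a) (2 * b) (4 * c)) := by
    intro a b c
    rw [mul_inv_eq_iff_eq_mul, ← map_mul, ← map_mul, T_U]
  refine moved_of_heis' (p := 7) (by norm_num) (by rw [card_ON]; norm_num) hh (c := g T) (a := 2) (u := 0) (v := 0)
    (by norm_num) (by norm_num) ?_ ?_
  · rw [hT, zpow_zero, mul_one, ← map_pow, U_pow]
    congr 2 <;> simp
  · rw [hT, zpow_zero, mul_one, ← map_pow, U_pow]
    congr 2 <;> simp

/-- **S4114, the row `O'N`.** -/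
theorem row_ON {G : Type u} [Group G] [Finite G] (h : Cfsg.Spor.IsoON G) : Cfsg.Agent.H520.Row G := by
  have D := BpSpor.Row.dat_on h
  obtain ⟨e⟩ := h
  refine row_of_dat D (l := [(2, 9), (3, 4), (5, 1), (7, 3), (11, 1), (19, 1), (31, 1)])
    (by decide +kernel) (by norm_num) fun x hx hx2 hx3 => ?_
  simp only [List.mem_cons, List.not_mem_nil, or_false] at hx
  rcases hx with rfl | rfl | rfl | rfl | rfl | rfl | rfl
  · exact absurd rfl hx3
  · exact moved_three.congr e
  · exact absurd hx2 (by norm_num)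
  · exact moved_seven.congr e
  all_goals exact absurd hx2 (by norm_num)

end Cfsg.Agent.H859.Ccp.ON
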