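import Cfsg.Agent.H497.Stein.Heis
import Cfsg.Agent.KFacts.Ru.ConjWord
import Cfsg.Agent.RuLat.Main
import Cfsg.Agent.BpSpor.Row.Ru

/-!
# S4114: the row `Ru` (helper859)

Explicit extraspecial Sylow subgroups `3^{1+2}`, `5^{1+2}` (words in the letters of `RuD.Letters`) and words conjugating
the elements `z`, `y`, `x y^j` to other powers.
-/

set_option autoImplicit false
set_option maxRecDepth 100000
set_option exponentiation.threshold 5000

namespace Cfsg.Agent.H859.Ccp.Ru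

open Subgroup Cfsg Cfsg.Agent.H520 Cfsg.Agent.H497.Stein
open Cfsg.Agent.SporadicB Cfsg.Agent.RuD.Letters Cfsg.Agent.SporRec.TCUpperCert Cfsg.Agent.SporRec.R3.Kernel
open Cfsg.Agent.KFacts.Ru.ConjWord

universe u

/-- the power of a word -/
def pw (w : List ℕ) : ℕ → List ℕ
  | 0 => []
  | n + 1 => pw w n ++ w

theorem wprod_pw (w : List ℕ) (n : ℕ) : (wprod ml (pw w n) : RuOrder.H) = wprod ml w ^ n := by
  induction n with
  | zero => rw [pw, wprod_nil, pow_zero]
  | succ n ih => rw [pw, wprod_append, ih, pow_succ]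

theorem eq_w {a b : List ℕ} (h : chkRel [eqr a b] = true) : (wprod ml a : RuOrder.H) = wprod ml b :=
  eq_of (rel_of_chk h _ (List.mem_singleton.2 rfl))

theorem movedAt_of_words {t c : List ℕ} {k : ℕ} (b : Fin 4060) (h : chkRel [cj c t (pw t k)] = true)
    (hne : neK (pw t k) t b = true) : MovedAt (wprod ml t : RuOrder.H) := by
  have h1 := conj_of (rel_of_chk h _ (List.mem_singleton.2 rfl))
  rw [wprod_pw] at h1
  exact ⟨wprod ml c, k, h1, fun h2 => ne_of b hne (by rw [wprod_pw, h2])⟩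

theorem heis_of_words {p : ℕ} {U V W : List ℕ} (b : Fin 4060)
    (h1 : chkRel [eqr (pw U p) []] = true) (h1' : chkRel [eqr (pw V p) []] = true)
    (h1'' : chkRel [eqr (pw W p) []] = true)
    (h2 : chkRel [eqr (U ++ V) (V ++ (U ++ W))] = true) (h3 : chkRel [eqr (U ++ W) (W ++ U)] = true)
    (h5 : chkRel [eqr (V ++ W) (W ++ V)] = true) (h6 : neK W [] b = true) :
    Cfsg.Agent.H792.SpCube.Heis p (wprod ml V : RuOrder.H) (wprod ml U) (wprod ml W) := by
  have e1 := eq_w h1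
  have e1' := eq_w h1'
  have e1'' := eq_w h1''
  have e2 := eq_w h2
  have e3 := eq_w h3
  have e5 := eq_w h5
  rw [wprod_pw, wprod_nil] at e1 e1' e1''
  rw [wprod_append, wprod_append, wprod_append] at e2
  rw [wprod_append, wprod_append] at e3 e5
  exact ⟨e1', e1, e1'', e5, e3, by rw [e2, mul_assoc], fun he => ne_of b h6 (by rw [he, wprod_nil])⟩

def U3 : List ℕ := [0, 4, 3]

def V3 : List ℕ := [5, 3, 8, 5, 1, 7, 5, 7, 5]

def W3 : List ℕ := [7, 8, 0, 5, 3, 5, 3, 6, 5, 4, 7, 5, 0, 4, 3, 5, 3, 8, 5, 1, 7, 5, 7, 5]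

theorem heis3 : Cfsg.Agent.H792.SpCube.Heis 3 (wprod ml V3 : RuOrder.H) (wprod ml U3) (wprod ml W3) := by
  refine heis_of_words 0 ?_ ?_ ?_ ?_ ?_ ?_ ?_
  all_goals decide +kernel

theorem mz3 : MovedAt (wprod ml W3 : RuOrder.H) :=
  movedAt_of_words (c := [3, 6, 3, 5, 3, 6, 7, 0, 5, 4, 0]) (k := 2) 0 (by decide +kernel) (by decide +kernel)

theorem my3 : MovedAt (wprod ml U3 : RuOrder.H) :=
  movedAt_of_words (c := [4, 0, 7, 5, 3, 0, 8]) (k := 2) 0 (by decide +kernel) (by decide +kernel)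

theorem mx3_0 : MovedAt (wprod ml (V3 ++ pw U3 0) : RuOrder.H) :=
  movedAt_of_words (c := [6, 3, 8, 0, 5, 0, 4, 1, 1, 7, 1]) (k := 2) 0 (by decide +kernel) (by decide +kernel)

theorem mx3_1 : MovedAt (wprod ml (V3 ++ pw U3 1) : RuOrder.H) :=
  movedAt_of_words (c := [6, 5, 0, 3, 5, 7, 6, 7, 6, 5, 3, 6]) (k := 2) 0 (by decide +kernel) (by decide +kernel)

theorem mx3_2 : MovedAt (wprod ml (V3 ++ pw U3 2) : RuOrder.H) :=
  movedAt_of_words (c := [2, 3, 5, 7, 1, 7, 7, 5, 3, 6, 2, 6]) (k := 2) 0 (by decide +kernel) (by decide +kernel)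

theorem moved_three : Moved 3 RuOrder.H := by
  have hfin : Finite RuOrder.H := Nat.finite_of_card_ne_zero (by rw [RuOrder.card_H]; norm_num)
  have : Fact (Nat.Prime 3) := ⟨by norm_num⟩
  refine moved_of_heis_gen (p := 3) (by norm_num) (by rw [RuOrder.card_H]; norm_num) heis3 mz3 my3 fun j hj => ?_
  rw [← wprod_pw, ← wprod_append]
  interval_cases j
  · exact mx3_0
  · exact mx3_1
  · exact mx3_2

def U5 : List ℕ := [7, 6, 6, 2, 8, 3, 1, 2, 6, 4, 3, 3]

def V5 : List ℕ := [7, 5, 0, 8, 7, 6, 5, 7, 8, 1, 7, 5, 7, 1, 1, 3, 3]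

def W5 : List ℕ := [0, 4, 5]

theorem heis5 : Cfsg.Agent.H792.SpCube.Heis 5 (wprod ml V5 : RuOrder.H) (wprod ml U5) (wprod ml W5) := by
  refine heis_of_words 0 ?_ ?_ ?_ ?_ ?_ ?_ ?_
  all_goals decide +kernel

theorem mz5 : MovedAt (wprod ml W5 : RuOrder.H) :=
  movedAt_of_words (c := [0]) (k := 4) 0 (by decide +kernel) (by decide +kernel)

theorem my5 : MovedAt (wprod ml U5 : RuOrder.H) :=
  movedAt_of_words (c := [1]) (k := 2) 0 (by decide +kernel) (by decide +kernel)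

theorem mx5_0 : MovedAt (wprod ml (V5 ++ pw U5 0) : RuOrder.H) :=
  movedAt_of_words (c := [0, 1]) (k := 2) 0 (by decide +kernel) (by decide +kernel)

theorem mx5_1 : MovedAt (wprod ml (V5 ++ pw U5 1) : RuOrder.H) :=
  movedAt_of_words (c := [0]) (k := 4) 0 (by decide +kernel) (by decide +kernel)

theorem mx5_2 : MovedAt (wprod ml (V5 ++ pw U5 2) : RuOrder.H) :=
  movedAt_of_words (c := [1, 2, 6]) (k := 4) 0 (by decide +kernel) (by decide +kernel)

theorem mx5_3 : MovedAt (wprod ml (V5 ++ pw U5 3) : RuOrder.H) :=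
  movedAt_of_words (c := [1, 2, 0]) (k := 3) 0 (by decide +kernel) (by decide +kernel)

theorem mx5_4 : MovedAt (wprod ml (V5 ++ pw U5 4) : RuOrder.H) :=
  movedAt_of_words (c := [2, 1, 0]) (k := 3) 0 (by decide +kernel) (by decide +kernel)

theorem moved_five : Moved 5 RuOrder.H := by
  have hfin : Finite RuOrder.H := Nat.finite_of_card_ne_zero (by rw [RuOrder.card_H]; norm_num)
  have : Fact (Nat.Prime 5) := ⟨by norm_num⟩
  refine moved_of_heis_gen (p := 5) (by norm_num) (by rw [RuOrder.card_H]; norm_num) heis5 mz5 my5 fun j hj => ?_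
  rw [← wprod_pw, ← wprod_append]
  interval_cases j
  · exact mx5_0
  · exact mx5_1
  · exact mx5_2
  · exact mx5_3
  · exact mx5_4

/-- **S4114, the row `Ru`.** -/
theorem row_Ru {G : Type u} [Group G] [Finite G] (h : Cfsg.Spor.IsoRu G) : Cfsg.Agent.H520.Row G := by
  have D := BpSpor.Row.dat_ru h
  obtain ⟨e⟩ := h
  refine row_of_dat D (l := [(2, 14), (3, 3), (5, 3), (7, 1), (13, 1), (29, 1)])
    (by decide +kernel) (by norm_num) fun x hx hx2 hx3 => ?_
  simp only [List.mem_cons, List.not_mem_nil, or_false] at hx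
  rcases hx with rfl | rfl | rfl | rfl | rfl | rfl
  · exact absurd rfl hx3
  · exact moved_three.congr (e.trans RuLat.Main.equiv)
  · exact moved_five.congr (e.trans RuLat.Main.equiv)
  all_goals exact absurd hx2 (by norm_num)

end Cfsg.Agent.H859.Ccp.Ru
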