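import Cfsg.Agent.H859.Ccp.Tools
import Cfsg.Agent.BpSpor.SuzThreeCentral
import Cfsg.Agent.SporadicA.M11Facts2
import Cfsg.Agent.Cit.Eleven
import Cfsg.Agent.BpSpor.Row.Suz

/-!
# S4114: the row `Suz` (helper859)

* `moved_three` : the elements of order 3 lie in `3^5 : M₁₁` up to conjugation; those of `A0 = 3^5` are inverted by
  conjugates of one word, the others are conjugate to `E v * m0`;
* `moved_five` : a Sylow 5-subgroup `⟨u, v⟩` is inverted by a word.
-/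

set_option autoImplicit false
set_option maxRecDepth 100000

namespace Cfsg.Agent.H859.Ccp.Suz

open Subgroup Cfsg Cfsg.Spor Cfsg.Agent.H520 Cfsg.Agent.H497.Stein Cfsg.Agent.H859.Ccp.Tools
open Cfsg.Agent.Lib.PermNet Cfsg.Agent.SporadicRecognition.SuzPhi
open Cfsg.Agent.SporadicRecognition.SuzOrder
  Cfsg.Agent.SuzThree.Basic Cfsg.Agent.SuzThree.Elts
  Cfsg.Agent.SuzThree.Elementary Cfsg.Agent.SuzThree.NormElts Cfsg.Agent.SuzThree.NormAct
  Cfsg.Agent.BpSpor.SuzThreeCentral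

universe u

/-- a word inverting an element -/
theorem inv_of_words {t : Suz} {w : List Net} (ht : Rep t w) (c : List Suz.Gen)
    (h : t5 (wd c ++ w ++ wd c.reverse ++ w) = true) : el c * t * (el c)⁻¹ = t⁻¹ := by
  have h1 : Rep (el c * t * el c.reverse * t) (wd c ++ w ++ wd c.reverse ++ w) :=
    (((Rep.el c).mul ht).mul (Rep.el _)).mul ht
  rw [← el_reverse]
  exact eq_inv_of_mul_eq_one_left (eq_one_of_t5 h1 h)

theorem ne_one_of_pt {t : Suz} {w : List Net} (ht : Rep t w) (p q : ℕ) (h : mv w p q = true) (hpq : p ≠ q) : t ≠ 1 := by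
  intro h1
  have h2 := ht.pt h
  rw [h1, map_one] at h2
  exact hpq h2

/-! ### The elements of `A0` -/

/-- the word inverting `x₀` and `x₁` -/
def c0 : List Suz.Gen := [.a, .d, .f, .b, .a, .b, .f, .a]

theorem c0_x0 : el c0 * x .i0 * (el c0)⁻¹ = (x .i0)⁻¹ := inv_of_words (rep_x .i0) c0 (by decide +kernel)

theorem c0_x1 : el c0 * x .i1 * (el c0)⁻¹ = (x .i1)⁻¹ := inv_of_words (rep_x .i1) c0 (by decide +kernel)

theorem inv_add {k : Suz} {v w : V} (hv : k * E v * k⁻¹ = (E v)⁻¹) (hw : k * E w * k⁻¹ = (E w)⁻¹) :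
    k * E (v + w) * k⁻¹ = (E (v + w))⁻¹ := by
  calc k * E (v + w) * k⁻¹ = (k * E v * k⁻¹) * (k * E w * k⁻¹) := by rw [E_add]; group
    _ = (E w * E v)⁻¹ := by rw [hv, hw, mul_inv_rev]
    _ = (E (v + w))⁻¹ := by rw [E_comm, E_add]

theorem inv_smul' {k : Suz} {v : V} (hv : k * E v * k⁻¹ = (E v)⁻¹) (s : ZMod 3) :
    k * E (s • v) * k⁻¹ = (E (s • v))⁻¹ := by
  have h3 : s = 0 ∨ s = 1 ∨ s = 2 := by revert s; decide
  rcases h3 with rfl | rfl | rfl
  · rw [zero_smul, E_zero]; simp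
  · rw [one_smul]; exact hv
  · have h2 : (2 : ZMod 3) • v = v + v := by
      rw [show (2 : ZMod 3) = 1 + 1 by decide, add_smul, one_smul]
    rw [h2]
    exact inv_add hv hv

theorem inv_of_sp {n : Suz} {f : Ix} {k : Suz} {i : Ix} (hi : k * x i * k⁻¹ = (x i)⁻¹) (h : Sp n i f) :
    (n * k * n⁻¹) * x f * (n * k * n⁻¹)⁻¹ = (x f)⁻¹ := by
  rcases h with h | h
  · rw [← h]
    calc n * k * n⁻¹ * (n * x i * n⁻¹) * (n * k * n⁻¹)⁻¹ = n * (k * x i * k⁻¹) * n⁻¹ := by group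
      _ = (n * x i * n⁻¹)⁻¹ := by rw [hi]; group
  · have h' : x f = n * (x i)⁻¹ * n⁻¹ := by
      rw [← inv_inj, ← h]; group
    rw [h']
    calc n * k * n⁻¹ * (n * (x i)⁻¹ * n⁻¹) * (n * k * n⁻¹)⁻¹ = n * (k * x i * k⁻¹)⁻¹ * n⁻¹ := by group
      _ = (n * (x i)⁻¹ * n⁻¹)⁻¹ := by rw [hi]; group

theorem real_A0 {y : Suz} (hy : y ∈ A0) : IsConj y y⁻¹ := by
  obtain ⟨v, rfl⟩ := mem_A0.1 hy
  obtain ⟨f, g, hfg, s, t, rfl⟩ := decomp v
  have hex : ∀ a b : Ix, a ≠ b → ∃ c d : Ix, [a, b, c, d].Nodup := by decide +kernel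
  obtain ⟨c, d, hn⟩ := hex f g hfg
  obtain ⟨n, h0, h1, -, -⟩ := exists_npr f g c d hn
  have e0 := smul_spec n .i0
  have e1 := smul_spec n .i1
  rw [h0] at e0
  rw [h1] at e1
  have k0 := inv_of_sp c0_x0 e0
  have k1 := inv_of_sp c0_x1 e1
  rw [x_eq] at k0 k1
  exact isConj_iff.2 ⟨_, inv_add (inv_smul' k0 s) (inv_smul' k1 t)⟩

/-! ### The elements outside of `A0` -/

/-- the word of an element of order 3 of the complement -/
def mw : List Suz.Gen := [.a, .b, .a, .c]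

theorem m_mem : el mw ∈ NA := by
  have h : el mw = el (nw .j2) * el (nw .j0) := by
    rw [← el_append]; rfl
  rw [h]
  exact mul_mem (nw_mem .j2) (nw_mem .j0)

/-- the images of the basis -/
def col : Fin 5 → V := ![(1, 0, 0, 0, 0), (0, 2, 1, 1, 1), (2, 2, 2, 0, 1), (0, 1, 0, 0, 0), (1, 2, 2, 2, 0)]

/-- the basis -/
def bas : Fin 5 → V := ![(1, 0, 0, 0, 0), (0, 1, 0, 0, 0), (0, 0, 1, 0, 0), (0, 0, 0, 1, 0), (0, 0, 0, 0, 1)]

theorem m_bas (i : Fin 5) : el mw * E (bas i) = E (col i) * el mw := by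
  have h : checkEq 11 (wd mw ++ eW (bas i)) (eW (col i) ++ wd mw) = true := by
    revert i; decide +kernel
  exact eq_of_reps ((Rep.el mw).mul (rep_E _)) ((rep_E _).mul (Rep.el mw)) h

/-- the linear map -/
def Mf (v : V) : V := v.1.val • col 0 + (v.2.1.val • col 1 + (v.2.2.1.val • col 2 +
  (v.2.2.2.1.val • col 3 + v.2.2.2.2.val • col 4)))

theorem eq_bas : ∀ v : V, v = v.1.val • bas 0 + (v.2.1.val • bas 1 + (v.2.2.1.val • bas 2 +
    (v.2.2.2.1.val • bas 3 + v.2.2.2.2.val • bas 4))) := by decide +kernel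

theorem m_E (v : V) : el mw * E v = E (Mf v) * el mw := by
  obtain ⟨L, hL⟩ := exists_L ⟨el mw, m_mem⟩
  have hL' : ∀ v, E (L v) = el mw * E v * (el mw)⁻¹ := hL
  have h1 : ∀ i, L (bas i) = col i := by
    intro i
    apply E_injective
    rw [hL', m_bas, mul_inv_cancel_right]
  have h2 : L v = Mf v := by
    conv_lhs => rw [eq_bas v]
    rw [map_add, map_add, map_add, map_add, map_nsmul, map_nsmul, map_nsmul, map_nsmul, map_nsmul, h1, h1, h1, h1, h1]
    rfl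
  rw [← h2, hL', inv_mul_cancel_right]

/-- the other representatives -/
def oth : List V :=
  [(0, 0, 0, 0, 1), (0, 0, 0, 0, 2), (0, 0, 0, 1, 0), (0, 0, 0, 2, 0), (0, 0, 1, 0, 0), (0, 0, 2, 0, 0)]

/-- the representatives modulo `(1 - M) V` -/
def reps9 : List V := 0 :: (0, 0, 0, 1, 1) :: (0, 0, 0, 2, 2) :: oth

theorem cover9 : ∀ v : V, ∃ u : V, v + u - Mf u ∈ reps9 := by decide +kernel

theorem cover (v : V) : ∃ u : V, v + u - Mf u = 0 ∨ v + u - Mf u = (0, 0, 0, 1, 1) ∨ v + u - Mf u = (0, 0, 0, 2, 2) ∨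
    v + u - Mf u ∈ oth := by
  obtain ⟨u, hu⟩ := cover9 v
  refine ⟨u, ?_⟩
  simpa only [reps9, List.mem_cons] using hu

theorem cube_eq {G : Type*} [Group G] (t : G) : t * (t * t) = t ^ 3 := by
  simp only [pow_succ, pow_zero, one_mul, mul_assoc]

theorem five_eq {G : Type*} [Group G] (t : G) : t * (t * (t * (t * t))) = t ^ 5 := by
  simp only [pow_succ, pow_zero, one_mul, mul_assoc]

/-- conjugation by `A0` -/
theorem conj_E (v u : V) : IsConj (E v * el mw) (E (v + u - Mf u) * el mw) := by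
  refine isConj_iff.2 ⟨E u, ?_⟩
  have h := m_E (-u)
  have h1 : Mf (-u) = -Mf u := by
    apply E_injective
    have h2 := m_E u
    have h3 : E (Mf u) = el mw * E u * (el mw)⁻¹ := by rw [h2, mul_inv_cancel_right]
    have h4 : E (Mf (-u)) = el mw * E (-u) * (el mw)⁻¹ := by rw [h, mul_inv_cancel_right]
    rw [h4, E_neg, E_neg, h3]; group
  calc E u * (E v * el mw) * (E u)⁻¹ = E u * E v * (el mw * E (-u)) := by rw [E_neg]; group
    _ = E u * E v * (E (-Mf u) * el mw) := by rw [h, h1]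
    _ = E (v + u - Mf u) * el mw := by
      rw [← mul_assoc, ← E_add, ← E_add, sub_eq_add_neg, add_comm u v]

theorem rep_Em (v : V) : Rep (E v * el mw) (eW v ++ wd mw) := (rep_E v).mul (Rep.el mw)

theorem real_0 : IsConj (E 0 * el mw) (E 0 * el mw)⁻¹ :=
  isConj_iff.2 ⟨_, inv_of_words (rep_Em _) [.c] (by decide +kernel)⟩

theorem real_1 : IsConj (E (0, 0, 0, 1, 1) * el mw) (E (0, 0, 0, 1, 1) * el mw)⁻¹ :=
  isConj_iff.2 ⟨_, inv_of_words (rep_Em _) [.a, .f, .b, .c, .d, .c, .b, .f, .a] (by decide +kernel)⟩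

theorem real_2 : IsConj (E (0, 0, 0, 2, 2) * el mw) (E (0, 0, 0, 2, 2) * el mw)⁻¹ :=
  isConj_iff.2 ⟨_, inv_of_words (rep_Em _) [.c, .d, .c, .b, .a, .b, .c, .d, .c] (by decide +kernel)⟩

theorem cub_of (v : V) (q : ℕ) (h : mv ((eW v ++ wd mw) ++ ((eW v ++ wd mw) ++ (eW v ++ wd mw))) 0 q = true)
    (hq : 0 ≠ q) : (E v * el mw) ^ 3 ≠ 1 := by
  have h1 := (rep_Em v).mul ((rep_Em v).mul (rep_Em v))
  have h2 := ne_one_of_pt h1 0 q h hq
  intro h3
  apply h2
  rw [cube_eq, h3]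

theorem cube_all : ∀ v ∈ oth, (E v * el mw) ^ 3 ≠ 1 := by
  intro v hv
  simp only [oth, List.mem_cons, List.not_mem_nil, or_false] at hv
  rcases hv with rfl | rfl | rfl | rfl | rfl | rfl
  · exact cub_of _ 1367 (by decide +kernel) (by norm_num)
  · exact cub_of _ 1575 (by decide +kernel) (by norm_num)
  · exact cub_of _ 1575 (by decide +kernel) (by norm_num)
  · exact cub_of _ 1367 (by decide +kernel) (by norm_num)
  · exact cub_of _ 1367 (by decide +kernel) (by norm_num)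
  · exact cub_of _ 1575 (by decide +kernel) (by norm_num)

theorem real_of_conj {G : Type*} [Group G] {y z : G} (h : IsConj y z) (hz : IsConj z z⁻¹) : IsConj y y⁻¹ := by
  obtain ⟨c, rfl⟩ := isConj_iff.1 h
  refine h.trans (hz.trans (isConj_iff.2 ⟨c⁻¹, ?_⟩))
  group

theorem real_Em {v : V} (h3 : (E v * el mw) ^ 3 = 1) : IsConj (E v * el mw) (E v * el mw)⁻¹ := by
  obtain ⟨u, h | h | h | h⟩ := cover v
  · have h1 := conj_E v u
    rw [h] at h1
    exact real_of_conj h1 real_0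
  · have h1 := conj_E v u
    rw [h] at h1
    exact real_of_conj h1 real_1
  · have h1 := conj_E v u
    rw [h] at h1
    exact real_of_conj h1 real_2
  · exfalso
    obtain ⟨c, hc⟩ := isConj_iff.1 (conj_E v u)
    apply cube_all _ h
    rw [← hc, conj_pow, h3, mul_one, mul_inv_cancel]

theorem m_notMem : el mw ∉ A0 := by
  intro h
  have h1 := m_bas 1
  rw [comm_A0 h (E_mem _)] at h1
  have h2 := E_injective (mul_right_cancel h1)
  exact absurd h2 (by decide)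

theorem m_cube : (el mw) ^ 3 = 1 := by
  have h1 := (Rep.el mw).mul ((Rep.el mw).mul (Rep.el mw))
  have h2 := eq_one_of_t5 h1 (by decide +kernel)
  rw [← cube_eq, h2]

/-- elements of order 3 of `NA` -/
theorem real_NA {y : Suz} (hy : y ∈ NA) (hy3 : orderOf y = 3) : IsConj y y⁻¹ := by
  by_cases hA : y ∈ A0
  · exact real_A0 hA
  have : Fact (Nat.Prime 3) := ⟨Nat.prime_three⟩
  obtain ⟨e⟩ := isoM11
  have hM : Cfsg.IsM11 (NA ⧸ A0.subgroupOf NA) := Cfsg.Agent.Cit.Eleven.isM11 ⟨e⟩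
  have key : ∀ z : NA, (z : Suz) ^ 3 = 1 → (z : Suz) ∉ A0 → orderOf (QuotientGroup.mk z : NA ⧸ A0.subgroupOf NA) = 3 := by
    intro z h3 hz
    refine orderOf_eq_prime ?_ ?_
    · rw [← QuotientGroup.mk_pow]
      have h4 : z ^ 3 = 1 := Subtype.ext h3
      rw [h4]; rfl
    · intro h1
      exact hz ((QuotientGroup.eq_one_iff z).1 h1)
  have h1 := key ⟨y, hy⟩ (by rw [← hy3]; exact pow_orderOf_eq_one y) hA
  have h2 := key ⟨el mw, m_mem⟩ m_cube m_notMem
  obtain ⟨cb, hc⟩ := isConj_iff.1 (Cfsg.Agent.SporadicA.M11Facts2.isConj_three hM h1 h2)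
  obtain ⟨c, rfl⟩ := QuotientGroup.mk_surjective cb
  have h4 : (QuotientGroup.mk (c * ⟨y, hy⟩ * c⁻¹ * (⟨el mw, m_mem⟩ : NA)⁻¹) : NA ⧸ A0.subgroupOf NA) = 1 := by
    rw [QuotientGroup.mk_mul, QuotientGroup.mk_mul, QuotientGroup.mk_mul, QuotientGroup.mk_inv, QuotientGroup.mk_inv, hc,
      mul_inv_cancel]
  have h5 := (QuotientGroup.eq_one_iff _).1 h4
  obtain ⟨v, hv⟩ := mem_A0.1 h5
  have h6 : (c : Suz) * y * (c : Suz)⁻¹ = E v * el mw := by
    rw [hv]
    show (c : Suz) * y * (c : Suz)⁻¹ = (c : Suz) * y * (c : Suz)⁻¹ * (el mw)⁻¹ * el mw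
    rw [inv_mul_cancel_right]
  refine real_of_conj (isConj_iff.2 ⟨c, h6⟩) (real_Em ?_)
  rw [← h6, conj_pow, ← hy3, pow_orderOf_eq_one, mul_one, mul_inv_cancel]

theorem moved_three : Moved 3 Suz := by
  have hfin := finSuz
  have : Fact (Nat.Prime 3) := ⟨Nat.prime_three⟩
  refine moved_of_subgroup NA ?_ fun y hy hyo =>
    movedAt_of_real (real_NA hy hyo) (sq_ne_one Nat.prime_three (by norm_num) hyo)
  have h1 := NA.card_mul_index
  rw [card_NA, card_Suz] at h1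
  omega

/-! ### Elements of order 5 -/

def aw : List Suz.Gen := [.a, .b]

def bw : List Suz.Gen :=
  [.b, .e, .a, .c, .b, .d, .c, .d, .c, .b, .a, .b, .c, .d, .c, .b, .a, .c, .b, .a, .b, .c, .a, .b, .a, .b]

theorem a_five : el aw ^ 5 = 1 := by
  have h := Rep.el aw
  have h1 := h.mul (h.mul (h.mul (h.mul h)))
  have h2 := eq_one_of_t5 h1 (by decide +kernel)
  rw [← five_eq, h2]

theorem b_five : el bw ^ 5 = 1 := by
  have h := Rep.el bw
  have h1 := h.mul (h.mul (h.mul (h.mul h)))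
  have h2 := eq_one_of_t5 h1 (by decide +kernel)
  rw [← five_eq, h2]

theorem b_ne : el bw ≠ 1 := ne_one_of_pt (Rep.el bw) 4 14 (by decide +kernel) (by norm_num)

theorem a_ne : el aw ≠ 1 := ne_one_of_pt (Rep.el aw) 1 3 (by decide +kernel) (by norm_num)

theorem comm_ab : el aw * el bw = el bw * el aw :=
  eq_of_reps ((Rep.el aw).mul (Rep.el bw)) ((Rep.el bw).mul (Rep.el aw)) (by decide +kernel)

theorem a_a : el [.a] * el aw * (el [.a])⁻¹ = (el aw)⁻¹ := inv_of_words (Rep.el aw) [.a] (by decide +kernel)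

theorem a_b : el [.a] * el bw = el bw * el [.a] :=
  eq_of_reps ((Rep.el [.a]).mul (Rep.el bw)) ((Rep.el bw).mul (Rep.el [.a])) (by decide +kernel)

theorem ae_a : el [.a, .e] * el aw * (el [.a, .e])⁻¹ = (el aw)⁻¹ := inv_of_words (Rep.el aw) [.a, .e] (by decide +kernel)

theorem ae_b : el [.a, .e] * el bw * (el [.a, .e])⁻¹ = (el bw)⁻¹ := inv_of_words (Rep.el bw) [.a, .e] (by decide +kernel)

theorem b_notMem : el bw ∉ zpowers (el aw) := by
  rintro ⟨k, hk⟩
  have hk' : el aw ^ k = el bw := hk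
  have h1 : el [.a] * el aw ^ k * (el [.a])⁻¹ = (el aw ^ k)⁻¹ := by rw [← conj_zpow, a_a, inv_zpow]
  rw [hk', a_b, mul_inv_cancel_right] at h1
  apply b_ne
  have h2 : el bw ^ 2 = 1 := by
    rw [pow_two]
    nth_rw 1 [h1]
    rw [inv_mul_cancel]
  calc el bw = el bw ^ 5 * ((el bw ^ 2) ^ 2)⁻¹ := by group
    _ = 1 := by rw [b_five, h2]; group

theorem moved_five : Moved 5 Suz := by
  have hfin := finSuz
  have : Fact (Nat.Prime 5) := ⟨Nat.prime_five⟩
  have hi : ∀ t : Suz, t ^ 5 = 1 → t⁻¹ = t ^ 4 := fun t ht =>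
    inv_eq_of_mul_eq_one_left (by rw [← pow_succ, ht])
  refine moved_of_rank_two (p := 5) (j := 4) (c := el [.a, .e]) (by rw [card_Suz]; norm_num) a_five b_five a_ne comm_ab
    b_notMem (by norm_num) ?_ ?_
  · rw [ae_a, hi _ a_five]
  · rw [ae_b, hi _ b_five]

/-- **S4114, the row `Suz`.** -/
theorem row_Suz {G : Type u} [Group G] [Finite G] (h : Cfsg.Spor.IsoSuz G) : Cfsg.Agent.H520.Row G := by
  have D := BpSpor.Row.dat_suz h
  obtain ⟨e⟩ := h
  refine row_of_dat D (l := [(2, 13), (3, 7), (5, 2), (7, 1), (11, 1), (13, 1)])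
    (by decide +kernel) (by norm_num) fun x hx hx2 hx3 => ?_
  simp only [List.mem_cons, List.not_mem_nil, or_false] at hx
  rcases hx with rfl | rfl | rfl | rfl | rfl | rfl
  · exact absurd rfl hx3
  · exact moved_three.congr e
  · exact moved_five.congr e
  all_goals exact absurd hx2 (by norm_num)

end Cfsg.Agent.H859.Ccp.Suz
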