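import Cfsg.Agent.H497.Stein.Heis

/-!
# Tools for `Moved p G` (helper859)

* `moved_of_subgroup` : it is enough to consider the elements of a subgroup of index prime to `p`;
* `moved_of_rank_two` : a Sylow `p`-subgroup `⟨a, b⟩` of order `p ^ 2` on which `c` acts as the `j`-th power.
-/

set_option autoImplicit false

namespace Cfsg.Agent.H859.Ccp.Tools

open Subgroup Cfsg Cfsg.Agent.H497.Stein

universe u

variable {G : Type u} [Group G] [Finite G] {p : ℕ} [hp : Fact p.Prime]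

/-- `p`-elements are conjugate into subgroups of index prime to `p` -/
theorem exists_conj_mem {H : Subgroup G} (hi : ¬ p ∣ H.index) {y : G} (hy : orderOf y = p) : ∃ g : G, g * y * g⁻¹ ∈ H := by
  obtain ⟨P⟩ : Nonempty (Sylow p H) := inferInstance
  let Q : Subgroup G := (P : Subgroup H).map H.subtype
  have hQc : Nat.card Q = Nat.card (P : Subgroup H) := card_map_of_injective H.subtype_injective
  have hQ : Nat.card Q = p ^ (Nat.card G).factorization p := by
    rw [hQc, P.card_eq_multiplicity, ← H.card_mul_index,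
      Nat.factorization_mul Nat.card_pos.ne' (index_ne_zero_of_finite), Finsupp.add_apply,
      Nat.factorization_eq_zero_of_not_dvd hi, add_zero]
  let S : Sylow p G := Sylow.ofCard Q hQ
  have h1 : IsPGroup p (zpowers y) := IsPGroup.of_card (n := 1) (by rw [Nat.card_zpowers, hy, pow_one])
  obtain ⟨R, hR⟩ := h1.exists_le_sylow
  obtain ⟨g, hg⟩ := MulAction.exists_smul_eq G R S
  refine ⟨g, ?_⟩
  have h2 : g * y * g⁻¹ ∈ (S : Subgroup G) := by
    rw [← hg]
    exact ⟨y, hR (mem_zpowers y), rfl⟩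
  have h3 : (S : Subgroup G) ≤ H := by
    show Q ≤ H
    exact map_subtype_le _
  exact h3 h2

theorem moved_of_subgroup (H : Subgroup G) (hi : ¬ p ∣ H.index)
    (h : ∀ y ∈ H, orderOf y = p → MovedAt y) : Moved p G := by
  intro y hy
  obtain ⟨g, hg⟩ := exists_conj_mem hi hy
  refine MovedAt.of_conj (k := g) (h _ hg ?_)
  rw [← MulAut.conj_apply, MulEquiv.orderOf_eq, hy]

omit [Finite G] hp in
theorem pow_mem_iff_of_coprime {H : Subgroup G} {b : G} (hb : b ^ p = 1) {n : ℕ} (hn : n.Coprime p) (h : b ^ n ∈ H) :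
    b ∈ H := by
  have h1 : b ^ (n.gcd p : ℤ) ∈ H := by
    rw [Nat.gcd_eq_gcd_ab, zpow_add, zpow_mul, zpow_mul, zpow_natCast, zpow_natCast, hb, one_zpow, mul_one]
    exact zpow_mem h _
  rw [hn.gcd_eq_one] at h1
  simpa using h1

/-- **A Sylow `p`-subgroup of order `p ^ 2` with a scalar action.** -/
theorem moved_of_rank_two (h3 : ¬ p ^ 3 ∣ Nat.card G) {a b c : G} {j : ℕ} (ha : a ^ p = 1) (hb : b ^ p = 1)
    (ha1 : a ≠ 1) (hab : a * b = b * a) (hba : b ∉ zpowers a) (hj : ¬ (p : ℤ) ∣ j - 1)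
    (hca : c * a * c⁻¹ = a ^ j) (hcb : c * b * c⁻¹ = b ^ j) : Moved p G := by
  have hcomm : Commute a b := hab
  let φ : Multiplicative ℤ × Multiplicative ℤ →* G :=
    MonoidHom.noncommCoprod (zpowersHom G a) (zpowersHom G b) (by
      intro m n
      exact (hcomm.zpow_left _).zpow_right _)
  have hφ : ∀ m n : Multiplicative ℤ, φ (m, n) = a ^ m.toAdd * b ^ n.toAdd := fun m n => rfl
  have hmem : ∀ y ∈ φ.range, ∃ m n : ℤ, y = a ^ m * b ^ n := by
    rintro _ ⟨⟨m, n⟩, rfl⟩
    exact ⟨_, _, hφ m n⟩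
  have hpow : ∀ y ∈ φ.range, y ^ p = 1 := by
    intro y hy
    obtain ⟨m, n, rfl⟩ := hmem y hy
    rw [((hcomm.zpow_left m).zpow_right n).mul_pow, ← zpow_natCast, ← zpow_natCast, ← zpow_mul, ← zpow_mul, mul_comm m,
      mul_comm n, zpow_mul, zpow_mul, zpow_natCast, zpow_natCast, ha, hb, one_zpow, one_zpow, one_mul]
  have hP : IsPGroup p φ.range := by
    intro y
    exact ⟨1, Subtype.ext (by rw [pow_one]; exact hpow _ y.2)⟩
  have haR : a ∈ φ.range := ⟨(Multiplicative.ofAdd 1, 1), by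
    rw [hφ]; simp⟩
  have hbR : b ∈ φ.range := ⟨(1, Multiplicative.ofAdd 1), by
    rw [hφ]; simp⟩
  obtain ⟨S, hS⟩ := hP.exists_le_sylow
  have hoa : orderOf a = p := orderOf_eq_prime ha ha1
  have hlt : zpowers a < φ.range := lt_of_le_of_ne (zpowers_le.2 haR) fun e => hba (by rw [e]; exact hbR)
  have hcard : p ^ 2 ∣ Nat.card φ.range := by
    obtain ⟨k, hk⟩ := IsPGroup.iff_card.1 hP
    have h1 : Nat.card (zpowers a) < Nat.card φ.range := by
      have := Set.ncard_lt_ncard (show ((zpowers a : Subgroup G) : Set G) ⊂ (φ.range : Set G) from hlt) (Set.toFinite _)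
      exact this
    rw [Nat.card_zpowers, hoa, hk] at h1
    rw [hk]
    refine pow_dvd_pow p ?_
    by_contra hk2
    have h2 : p ^ k ≤ p ^ 1 := Nat.pow_le_pow_right hp.out.pos (by omega)
    rw [pow_one] at h2
    omega
  have hSc : Nat.card (S : Subgroup G) ∣ p ^ 2 := by
    obtain ⟨k, hk⟩ := IsPGroup.iff_card.1 S.2
    rw [hk]
    refine pow_dvd_pow p ?_
    by_contra hk2
    exact h3 ((pow_dvd_pow p (by omega : 3 ≤ k)).trans (hk ▸ card_subgroup_dvd_card (S : Subgroup G)))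
  have hSe : (S : Subgroup G) = φ.range := by
    refine (eq_of_le_of_card_ge hS ?_).symm
    exact (Nat.le_of_dvd (pow_pos hp.out.pos 2) hSc).trans (Nat.le_of_dvd Nat.card_pos hcard)
  refine moved_of_sylow S fun y hy hyo => ?_
  rw [hSe] at hy
  obtain ⟨m, n, rfl⟩ := hmem y hy
  refine ⟨c, j, ?_, fun h => ?_⟩
  · calc c * (a ^ m * b ^ n) * c⁻¹ = (c * a * c⁻¹) ^ m * (c * b * c⁻¹) ^ n := by
          rw [conj_zpow, conj_zpow]; group
      _ = (a ^ m * b ^ n) ^ j := by
          rw [hca, hcb, ((hcomm.zpow_left m).zpow_right n).mul_pow, ← zpow_natCast, ← zpow_natCast, ← zpow_natCast,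
            ← zpow_natCast, ← zpow_mul, ← zpow_mul, ← zpow_mul, ← zpow_mul, mul_comm m, mul_comm n]
  · have h1 : (a ^ m * b ^ n) ^ ((j : ℤ) - 1) = 1 := by
      rw [zpow_sub, zpow_one, zpow_natCast, h, mul_inv_cancel]
    have h2 := orderOf_dvd_iff_zpow_eq_one.2 h1
    rw [hyo] at h2
    exact hj h2

end Cfsg.Agent.H859.Ccp.Tools
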